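import Cfsg.Agent.KFacts.J2.Basic
import Cfsg.Agent.OddHalf.D8.Sheet
set_option linter.all false

/-!
# The Hall–Janko group: the sheet (helper826)

* `exists_dat_of`: the data `Dat` for every group isomorphic to `Cfsg.Spor.J2`;
* `mul_inner`: the product of two outer automorphisms is inner; `out`, `schreier`, `sylAut`, `basic`;
* `normal_le`, `irr`, `aut`: `Q = O₂(C(t))`, irreducible, automorphisms trivial on `C(t)/Q`;
* `exists_act_C`, `exists_conj_of_even`: automorphisms of `C(t)`.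
-/

set_option autoImplicit false

namespace Cfsg.Agent.KFacts.J2.Facts

open Subgroup Cfsg.Agent.J2Type.Model Cfsg.Agent.J2Type.SPFacts Cfsg.Agent.J2Type.CStruct
open Cfsg.Agent.J3Type.OneClass Cfsg.Agent.J2Type.Base Cfsg.Agent.KFacts.J2.Basic
open Cfsg.Agent.OddHalf
open scoped commutatorElement

/-! ### The model of `C(t)` -/

section C

variable {C : Type*} [Group C] {Q : Subgroup C} {z : C} {v : Fin 5 → C} {ρ : C →* SP}

/-- normal 2-subgroups of `C` lie in `Q` -/
theorem normal_le [Finite C] (M : IsModel Q z v ρ) {N : Subgroup C} (h2 : IsPGroup 2 N)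
    (hn : ∀ c, ∀ n ∈ N, c * n * c⁻¹ ∈ N) : N ≤ Q := by
  set f := Cfsg.Agent.KFacts.QMinus.permHom ρ with hf
  have hr := Cfsg.Agent.KFacts.QMinus.range_permHom M
  set N' : Subgroup (alternatingGroup (Fin 5)) := (N.map f).subgroupOf (alternatingGroup (Fin 5)) with hN'
  have hnor : N'.Normal := by
    refine ⟨?_⟩
    intro n hn' g
    rw [hN', mem_subgroupOf] at hn' ⊢
    obtain ⟨m, hm, hmn⟩ := hn'
    obtain ⟨c, hc⟩ : (g : Equiv.Perm (Fin 5)) ∈ f.range := by rw [hr]; exact g.2
    refine ⟨c * m * c⁻¹, hn c m hm, ?_⟩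
    rw [map_mul, map_mul, map_inv, hmn, hc]
    rfl
  have hp : IsPGroup 2 N' := (h2.map f).comap_of_injective _ (alternatingGroup (Fin 5)).subtype_injective
  have hsimp : IsSimpleGroup (alternatingGroup (Fin 5)) := alternatingGroup.isSimpleGroup (by simp)
  have hbot : N' = ⊥ := by
    rcases hnor.eq_bot_or_eq_top with h | h
    · exact h
    · exfalso
      rw [h] at hp
      have h3 : IsPGroup 2 (alternatingGroup (Fin 5)) := hp.of_equiv topEquiv
      obtain ⟨n, hn⟩ := IsPGroup.iff_card.1 h3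
      rw [Cfsg.Agent.KFacts.QMinus.card_A5] at hn
      have h5 : (3 : ℕ) ∣ 2 ^ n := by rw [← hn]; norm_num
      have := Nat.Prime.dvd_of_dvd_pow Nat.prime_three h5
      omega
  intro c hc
  rw [M.mem_Q]
  have h1 : f c ∈ N.map f := ⟨c, hc, rfl⟩
  have h2 : f c ∈ alternatingGroup (Fin 5) := by rw [← hr]; exact ⟨c, rfl⟩
  have h3 : (⟨f c, h2⟩ : alternatingGroup (Fin 5)) ∈ N' := by rw [hN', mem_subgroupOf]; exact h1
  rw [hbot, mem_bot] at h3
  exact congrArg Subtype.val h3

theorem isPGroup_Q (M : IsModel Q z v ρ) : IsPGroup 2 Q := by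
  intro q
  refine ⟨2, Subtype.ext ?_⟩
  show (q : C) ^ (2 ^ 2) = 1
  have e : (q : C) ^ (2 ^ 2) = (q * q : C) * (q * q) := by
    rw [show (2 : ℕ) ^ 2 = 4 by norm_num, pow_succ, pow_succ, pow_succ, pow_one]; group
  rw [e]
  rcases Cfsg.Agent.KFacts.QMinus.sq_mem M q.2 with h | h
  · rw [h, one_mul]
  · rw [h, M.z_sq]

/-- the centre of `C` -/
theorem fix_z (M : IsModel Q z v ρ) (β : MulAut C) : β z = z := by
  have h1 : ∀ c, c * β z = β z * c := by
    intro c
    have := congrArg β (M.z_comm (β.symm c))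
    rwa [map_mul, map_mul, MulEquiv.apply_symm_apply] at this
  rcases Cfsg.Agent.KFacts.QMinus.cent_Q M (c := β z) (fun i => (h1 _).symm) with h | h
  · exfalso
    apply M.z_ne
    apply β.injective
    rw [h, map_one]
  · exact h

theorem map_Q_le [Finite C] (M : IsModel Q z v ρ) (β : MulAut C) {q : C} (hq : q ∈ Q) : β q ∈ Q := by
  have hn := normal_Q M
  refine normal_le M (N := Q.map β.toMonoidHom) ((isPGroup_Q M).map _) ?_ ⟨q, hq, rfl⟩
  rintro c _ ⟨x, hx, rfl⟩
  refine ⟨β.symm c * x * (β.symm c)⁻¹, hn.conj_mem x hx _, ?_⟩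
  show β (β.symm c * x * (β.symm c)⁻¹) = c * β x * c⁻¹
  rw [map_mul, map_mul, map_inv, MulEquiv.apply_symm_apply]

theorem map_zp (M : IsModel Q z v ρ) (β : MulAut C) (a : ZMod 2) : β (zp z a) = zp z a := by
  rcases zmod2_cases a with h | h
  · rw [h, zp_zero, map_one]
  · rw [h, zp_one, fix_z M]

/-- an automorphism of `C` as a signed permutation of the `v i` -/
theorem exists_act_C [Finite C] (M : IsModel Q z v ρ) (β : MulAut C) :
    ∃ (σ : Equiv.Perm (Fin 5)) (s : Fin 5 → ZMod 2), ∀ i, β (v i) = zp z (s i) * v (σ i) := by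
  have h1 : ∀ i, ∃ (a : ZMod 2) (j : Fin 5), β (v i) = zp z a * v j := by
    intro i
    have hQ := map_Q_le M β (M.v_mem i)
    have hxx : β (v i) * β (v i) = 1 := by rw [← map_mul, M.v_sq, map_one]
    rcases invol_Q M hQ hxx (fun h => by
      rw [← map_one β] at h
      apply v_ne_one M i 0
      rw [zp_zero, one_mul]
      exact β.injective h) with h | ⟨a, j, h⟩
    · exfalso
      apply zv_ne_z M 0 i
      rw [zp_zero, one_mul]
      exact β.injective (h.trans (fix_z M β).symm)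
    · exact ⟨a, j, h⟩
  choose s f hf using h1
  have hinj : Function.Injective f := by
    intro i j hij
    have h2 : v i = zp z (s i + s j) * v j := by
      apply β.injective
      rw [map_mul, map_zp M, hf i, hf j, hij, ← mul_assoc, ← zp_add z M.z_sq, add_assoc,
        CharTwo.add_self_eq_zero, add_zero]
    have := M.v_inj 0 (s i + s j) i j (by rw [zp_zero, one_mul]; exact h2)
    exact this.2
  exact ⟨Equiv.ofBijective f (Finite.injective_iff_bijective.1 hinj), s, hf⟩

/-- **An automorphism of `C` that is even on the classes is inner on `Q`.** -/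
theorem exists_conj_of_even [Finite C] (M : IsModel Q z v ρ) (β : MulAut C) (σ : Equiv.Perm (Fin 5))
    (s : Fin 5 → ZMod 2) (h : ∀ i, β (v i) = zp z (s i) * v (σ i)) (hσ : Equiv.Perm.sign σ = 1) :
    ∃ c : C, ∀ q ∈ Q, β q = c * q * c⁻¹ := by
  obtain ⟨c₀, hc₀⟩ := Cfsg.Agent.KFacts.QMinus.exists_c M σ hσ
  have hX := Cfsg.Agent.KFacts.QMinus.extraspecial M
  set γ : MulAut C := (MulAut.conj c₀)⁻¹ * β with hγ
  have hγa : ∀ x, γ x = c₀⁻¹ * β x * c₀ := fun x => Cfsg.Agent.KFacts.OutQ.conj_inv_mul_apply c₀ β x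
  have hzc : ∀ a : ZMod 2, c₀⁻¹ * zp z a * c₀ = zp z a := by
    intro a
    rw [zp_comm' M, mul_assoc, inv_mul_cancel, mul_one]
  have hγv : ∀ i, γ (v i) = zp z (s i) * v i := by
    intro i
    rw [hγa, h i]
    calc c₀⁻¹ * (zp z (s i) * v (σ i)) * c₀ = (c₀⁻¹ * zp z (s i) * c₀) * (c₀⁻¹ * (v (σ i)) * c₀) := by group
      _ = zp z (s i) * (c₀⁻¹ * (c₀ * v i * c₀⁻¹) * c₀) := by rw [hzc, hc₀]
      _ = zp z (s i) * v i := by group
  have hγQ : ∀ q ∈ Q, ∃ b : ZMod 2, γ q = zp z b * q := by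
    intro q hq
    rcases M.cover q hq with ⟨a, h1⟩ | ⟨a, i, h1⟩ | ⟨a, i, j, _, h1⟩
    · exact ⟨0, by rw [h1, map_zp M, zp_zero, one_mul]⟩
    · refine ⟨s i, ?_⟩
      rw [h1, map_mul, map_zp M, hγv]
      calc zp z a * (zp z (s i) * v i) = (zp z a * zp z (s i)) * v i := by group
        _ = (zp z (s i) * zp z a) * v i := by rw [← zp_add z M.z_sq, ← zp_add z M.z_sq, add_comm]
        _ = _ := by group
    · refine ⟨s i + s j, ?_⟩
      rw [h1, map_mul, map_mul, map_zp M, hγv, hγv]
      calc zp z a * (zp z (s i) * v i * (zp z (s j) * v j)) = zp z a * zp z (s i) * (v i * zp z (s j)) * v j := by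
            group
        _ = zp z a * zp z (s i) * (zp z (s j) * v i) * v j := by rw [zp_comm' M (s j) (v i)]
        _ = (zp z a * (zp z (s i) * zp z (s j))) * (v i * v j) := by group
        _ = (zp z a * zp z (s i + s j)) * (v i * v j) := by rw [← zp_add z M.z_sq]
        _ = (zp z (s i + s j) * zp z a) * (v i * v j) := by
            rw [← zp_add z M.z_sq a, ← zp_add z M.z_sq (s i + s j), add_comm a]
        _ = _ := by rw [mul_assoc]
  let φ : Q →* Q := (γ.toMonoidHom.comp Q.subtype).codRestrict Q fun q => map_Q_le M γ q.2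
  have hφ : ∀ q : Q, ((φ q : Q) : C) = γ q := fun q => rfl
  obtain ⟨x, hx⟩ := Cfsg.Agent.ClassificationK.Extraspecial.exists_inner hX.1.2.2 Nat.prime_two hX.2 φ (by
    intro q
    rw [Cfsg.Agent.KFacts.QMinus.center_eq M, Subgroup.coe_mul, hφ, Subgroup.coe_inv]
    obtain ⟨b, hb⟩ := hγQ q q.2
    rw [hb, mul_assoc, mul_inv_cancel, mul_one]
    rcases zmod2_cases b with h | h
    · left; rw [h, zp_zero]
    · right; rw [h, zp_one])
  refine ⟨c₀ * x, fun q hq => ?_⟩
  have h1 : γ q = x * q * (x : C)⁻¹ := congrArg Subtype.val (hx ⟨q, hq⟩)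
  rw [hγa] at h1
  calc β q = c₀ * (c₀⁻¹ * β q * c₀) * c₀⁻¹ := by group
    _ = c₀ * (x * q * (x : C)⁻¹) * c₀⁻¹ := by rw [h1]
    _ = c₀ * x * q * (c₀ * x)⁻¹ := by group

/-- composition of signed permutations -/
theorem comp_act (M : IsModel Q z v ρ) {β γ : MulAut C} {σ τ : Equiv.Perm (Fin 5)} {s r : Fin 5 → ZMod 2}
    (hβ : ∀ i, β (v i) = zp z (s i) * v (σ i)) (hγ : ∀ i, γ (v i) = zp z (r i) * v (τ i)) (i : Fin 5) :
    (β * γ) (v i) = zp z (r i + s (τ i)) * v ((σ * τ) i) := by
  show β (γ (v i)) = _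
  rw [hγ, map_mul, map_zp M, hβ, ← mul_assoc, ← zp_add z M.z_sq]
  rfl

/-- a permutation commuting with `A₅` is trivial -/
theorem perm_comm_aux : ∀ σ : Equiv.Perm (Fin 5),
    (∀ τ : Equiv.Perm (Fin 5), Equiv.Perm.sign τ = 1 → σ * τ = τ * σ) → σ = 1 := by
  intro σ h
  have key : ∀ σ : Equiv.Perm (Fin 5), (σ * c[0, 1, 2] = c[0, 1, 2] * σ) → (σ * c[2, 3, 4] = c[2, 3, 4] * σ) →
      σ = 1 := by decide +kernel
  exact key σ (h _ (by decide)) (h _ (by decide))

end C

/-! ### Every group isomorphic to `J₂` has the data -/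

section iso

variable {X Y : Type*} [Group X] [Group Y]

/-- centralisers under an isomorphism -/
def centMap (e : X ≃* Y) (t : X) : centralizer ({t} : Set X) ≃* centralizer ({e t} : Set Y) where
  toFun c := ⟨e c, mem_cent.2 (by rw [← map_mul, mem_cent.1 c.2, map_mul])⟩
  invFun c := ⟨e.symm c, mem_cent.2 (by
    have h := congrArg e.symm (mem_cent.1 c.2)
    rwa [map_mul, map_mul, e.symm_apply_apply] at h)⟩
  left_inv c := Subtype.ext (e.symm_apply_apply c)
  right_inv c := Subtype.ext (e.apply_symm_apply c)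
  map_mul' a b := Subtype.ext (map_mul e (a : X) (b : X))

theorem _root_.Cfsg.Agent.KFacts.J2.Basic.Dat.map [Finite X] [Finite Y] (e : X ≃* Y) {t u : X}
    {Q : Subgroup (centralizer ({t} : Set X))} {v : Fin 5 → centralizer ({t} : Set X)}
    {ρ : centralizer ({t} : Set X) →* SP} (D : Dat t u Q v ρ) :
    ∃ u', Dat (e t) u' (Q.map (centMap e t).toMonoidHom) (fun i => centMap e t (v i))
      (ρ.comp (centMap e t).symm.toMonoidHom) := by
  have M' := transport (centMap e t) D.M
  have hz : centMap e t (zc t) = zc (e t) := rfl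
  rw [hz] at M'
  have hc : Nat.card (centralizer ({e t} : Set Y)) = 1920 := by
    rw [← Nat.card_congr (centMap e t).toEquiv]; exact D.cardC
  have hnor := normal_Q M'
  have hQ32 : Nat.card (Q.map (centMap e t).toMonoidHom) = 32 := by
    have := Cfsg.Agent.KFacts.QMinus.card_mul M'
    rw [hc] at this
    omega
  have h60 : Nat.card (centralizer ({e t} : Set Y) ⧸ Q.map (centMap e t).toMonoidHom) = 60 := by
    have := card_eq_card_quotient_mul_card_subgroup (Q.map (centMap e t).toMonoidHom)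
    rw [hc, hQ32] at this
    omega
  have het : e t * e t = 1 := by rw [← map_mul, D.tt, map_one]
  have het1 : e t ≠ 1 := fun h => D.t_ne (e.injective (h.trans (map_one e).symm))
  have heu : e u * e u = 1 := by rw [← map_mul, D.uu, map_one]
  have heu1 : e u ≠ 1 := fun h => D.u_ne (e.injective (h.trans (map_one e).symm))
  obtain ⟨n, hn1, -⟩ := D.exists_n
  have hen : e n * e t * (e n)⁻¹ = e (v 0) := by rw [← hn1, map_mul, map_mul, map_inv]
  obtain ⟨u', F⟩ := Cfsg.Agent.J2Type.Fusion.fus_core (e t) (orderOf_two het het1)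
    (Q.map (centMap e t).toMonoidHom) (Cfsg.Agent.KFacts.QMinus.extraspecial M') hQ32 (by
      intro c hcQ
      rcases Cfsg.Agent.KFacts.QMinus.cent_Q M' (c := c) (fun i => by
        exact ((mem_centralizer_iff.1 hcQ) _ (M'.v_mem i)).symm) with h | h
      · rw [h]; exact one_mem _
      · rw [h]; exact M'.z_mem) h60
    ⟨e n, ⟨by
        rw [hen]
        exact (centMap e t (v 0)).2, by
        refine ⟨v 0, D.M.v_mem 0, ?_⟩
        apply Subtype.ext
        exact hen.symm⟩, by
        rw [hen]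
        intro h
        exact D.v_ne_t 0 (e.injective h)⟩
    ⟨e t, e u, orderOf_two het het1, orderOf_two heu heu1, fun h => by
      obtain ⟨g, hg⟩ := isConj_iff.1 h
      apply D.F.nconj
      refine isConj_iff.2 ⟨e.symm g, ?_⟩
      apply e.injective
      rw [map_mul, map_mul, map_inv, e.apply_symm_apply, hg]⟩
  exact ⟨u', F, M'⟩

/-- **The data for every group isomorphic to `J₂`.** -/
theorem exists_dat_of [Finite X] (h : Cfsg.Spor.IsoJ2 X) : ∃ (t u : X)
    (Q : Subgroup (centralizer ({t} : Set X))) (v : Fin 5 → centralizer ({t} : Set X))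
    (ρ : centralizer ({t} : Set X) →* SP), Dat t u Q v ρ := by
  obtain ⟨e⟩ := h
  have hfin : Finite Cfsg.Spor.J2 := Finite.of_equiv X e.toEquiv
  obtain ⟨t, u, Q, v, ρ, D⟩ := exists_dat
  obtain ⟨u', D'⟩ := D.map e.symm
  exact ⟨_, _, _, _, _, D'⟩

end iso

end Cfsg.Agent.KFacts.J2.Facts
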