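import Cfsg.Agent.KFacts.J2.Facts
import Cfsg.Agent.KFacts.J3Sheet
import Cfsg.Agent.OddHalf.D8.JTwo.Sheet
set_option linter.all false

/-!
# The sheet of `J₂` (helper826)

`sheetX`: `SheetX t C(t) Q` for a group with the data `Dat t u Q v ρ`.
-/

set_option autoImplicit false

namespace Cfsg.Agent.KFacts.J2.SheetX

open Subgroup Cfsg.Agent.J2Type.Model Cfsg.Agent.J2Type.SPFacts Cfsg.Agent.J2Type.CStruct
open Cfsg.Agent.J3Type.OneClass Cfsg.Agent.J2Type.Base Cfsg.Agent.KFacts.J2.Basic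
open Cfsg.Agent.Co2Type.Quad Cfsg.Agent.KFacts.AutLarge Cfsg.Agent.KFacts.J3Sheet
open Cfsg.Agent.OddHalf Cfsg.Agent.OddHalf.D8.JTwo.Sheet
open scoped commutatorElement

variable {X : Type*} [Group X] {t u : X} {Q : Subgroup (centralizer ({t} : Set X))}
  {v : Fin 5 → centralizer ({t} : Set X)} {ρ : centralizer ({t} : Set X) →* SP}

theorem odd_index [Finite X] (D : Dat t u Q v ρ) : Odd (centralizer ({t} : Set X)).index := by
  rw [D.index]; decide

/-- the generation data -/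
theorem gen_data [Finite X] (D : Dat t u Q v ρ) : ∃ n₀ : X,
    n₀ * t * n₀⁻¹ ∈ Q.map (centralizer ({t} : Set X)).subtype ∧ n₀ * t * n₀⁻¹ ≠ t ∧
    closure ({c : X | c * t = t * c} ∪ {n₀}) = ⊤ := by
  obtain ⟨n, hn1, -⟩ := D.exists_n
  refine ⟨n, ?_, ?_, ?_⟩
  · rw [hn1]; exact ⟨v 0, D.M.v_mem 0, rfl⟩
  · rw [hn1]; exact D.v_ne_t 0
  · apply D.gen (n := n) _ _ (v 0) (D.M.v_mem 0) hn1
    · rw [hn1]; exact D.v_ne_t 0
    · intro c hc
      exact subset_closure (Or.inl (mem_cent.1 hc))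
    · exact subset_closure (Or.inr rfl)

/-- `|Out| ≤ 2` -/
theorem index_le [Finite X] (D : Dat t u Q v ρ) :
    (MulAut.conj : X →* MulAut X).range.index = 1 ∨ (MulAut.conj : X →* MulAut X).range.index = 2 := by
  obtain ⟨n, h1, h2, h3⟩ := gen_data D
  exact J3Sheet.index_le D.cardC D.M h1 h2 h3 (odd_index D)

/-- **The sheet** -/
theorem sheetX [Finite X] (D : Dat t u Q v ρ) :
    SheetX t (centralizer ({t} : Set X)) (Q.map (centralizer ({t} : Set X)).subtype) := by
  obtain ⟨n₀, hin, hnz, hgen⟩ := gen_data D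
  have hc := D.cardC
  have M := D.M
  have S := QMinus.sheet hc M
  have hL := large hc M
  have hI := J3Sheet.irr hc M
  have hodd := odd_index D
  have hv1 : ∀ i, (v i : X) ≠ 1 := D.v_ne
  have hvz : ∀ i, (v i : X) ≠ t := D.v_ne_t
  have hvR : ∀ i, (v i : X) ∈ Q.map (centralizer ({t} : Set X)).subtype := fun i => ⟨_, M.v_mem i, rfl⟩
  have hne : ∃ x ∈ Q.map (centralizer ({t} : Set X)).subtype, x ≠ 1 ∧ x ≠ t := ⟨_, hvR 0, hv1 0, hvz 0⟩
  have hRmax : ∀ B : Subgroup X, B ≤ centralizer ({t} : Set X) → IsPGroup 2 B →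
      (∀ x ∈ centralizer ({t} : Set X), ∀ b ∈ B, x * b * x⁻¹ ∈ B) →
      B ≤ Q.map (centralizer ({t} : Set X)).subtype := by
    intro B hB hB2 hBn
    exact LargeO2.le_of_normal hL hI hne hB2 (fun w hw => mem_centralizer_singleton_iff.1 (hB hw))
      (fun u hu w hw => hBn u (mem_centralizer_singleton_iff.2 hu) w hw)
  have hR2 : IsPGroup 2 (Q.map (centralizer ({t} : Set X)).subtype) := by
    rw [IsPGroup.iff_card]
    exact ⟨5, by rw [S.card]; norm_num⟩
  have hidx := index_le D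
  refine ⟨S.sq, S.ne, ?_, fun x hx => mem_centralizer_singleton_iff.1 hx, S.perf, ⟨0, le_refl _⟩, ?_, ?_, S.zR, ?_, hR2,
    ?_, hRmax, ?_, ?_, ?_, ?_⟩
  · -- Sylow
    obtain ⟨T, hT⟩ := AutLarge.exists_sylow hodd
    have hRT := AutLarge.le_sylow hL T hT
    refine ⟨T, hRT S.zR, fun x hx => mem_centralizer_singleton_iff.1 (hT hx), ?_⟩
    intro y hy h
    exact S.cen y fun r hr => (h r (hRT hr)).symm
  · -- out
    rcases hidx with h | h <;> rw [h] <;> norm_num
  · -- Schreier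
    refine ⟨1, ?_⟩
    show ⁅(⊤ : Subgroup (MulAut X)), ⊤⁆ ≤ _
    rcases hidx with h | h
    · rw [index_eq_one] at h
      rw [h]; exact le_top
    · rw [Subgroup.commutator_le]
      intro a _ b _
      have hmul : ∀ {x y : MulAut X}, x * y ∈ (MulAut.conj : X →* MulAut X).range ↔
          (x ∈ (MulAut.conj : X →* MulAut X).range ↔ y ∈ (MulAut.conj : X →* MulAut X).range) :=
        fun {x y} => mul_mem_iff_of_index_two h
      rw [commutatorElement_def, hmul, hmul, hmul, inv_mem_iff, inv_mem_iff]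
      tauto
  · exact fun x hx => (mem_iff.1 hx).1
  · exact fun x hx r hr => S.norm x (mem_centralizer_singleton_iff.1 hx) r hr
  · intro B hB hBn
    exact hI B hB fun c hc => hBn c (mem_centralizer_singleton_iff.2 hc)
  · refine ⟨v 0, hvR 0, v 1, hvR 1, fun h => ?_⟩
    have h1 : v 0 * v 1 = v 1 * v 0 := Subtype.ext h
    exact absurd ((v_comm_iff M 0 1).1 h1) (by decide)
  · intro x _ h
    rcases S.cen x h with h | h
    · rw [h]; exact one_mem _
    · rw [h]; exact S.zR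
  · -- aut
    intro α _ hα h
    refine eq_conj_of_comm hL hI (QMinus.perfect M) hin hnz hgen (hvR 0) (hv1 0) (hvz 0) (hcen M) α hα ?_
    intro c hc'
    have h1 := S.norm c hc' _ (h c (mem_centralizer_singleton_iff.2 hc'))
    have e : c * (c⁻¹ * α c) * c⁻¹ = α c * c⁻¹ := by group
    rwa [e] at h1

end Cfsg.Agent.KFacts.J2.SheetX
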